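import Mathlib

/-!
# Schemes with one-dimensional local rings at the closed points
-/

set_option autoImplicit false
universe u

open CategoryTheory AlgebraicGeometry

namespace Groth.Agent.Lib.CurvePts

set_option linter.style.haveILetI false

variable {X : Scheme.{u}}

/-- A point without proper generalization. -/
def IsMaxPt (x : X) : Prop := ∀ z : X, z ⤳ x → z = x

theorem exists_prime {x ξ : X} (h : ξ ⤳ x) : ∃ p : PrimeSpectrum (X.presheaf.stalk x), X.fromSpecStalk x p = ξ := by
  have : ξ ∈ Set.range (X.fromSpecStalk x) := by rw [Scheme.range_fromSpecStalk]; exact h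
  exact this

theorem specializes_point {x : X} (p : PrimeSpectrum (X.presheaf.stalk x)) : X.fromSpecStalk x p ⤳ x := by
  have : X.fromSpecStalk x p ∈ Set.range (X.fromSpecStalk x) := ⟨p, rfl⟩
  rwa [Scheme.range_fromSpecStalk] at this

theorem le_iff {x : X} (p q : PrimeSpectrum (X.presheaf.stalk x)) :
    p ≤ q ↔ X.fromSpecStalk x p ⤳ X.fromSpecStalk x q :=
  (PrimeSpectrum.le_iff_specializes p q).trans (X.fromSpecStalk x).isEmbedding.specializes_iff.symm

theorem isMax_iff {x : X} (p : PrimeSpectrum (X.presheaf.stalk x)) :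
    IsMax p ↔ X.fromSpecStalk x p = x := by
  constructor
  · intro h
    obtain ⟨m, hm⟩ := exists_prime (specializes_rfl : x ⤳ x)
    have hle : p ≤ m := (le_iff p m).mpr (by rw [hm]; exact specializes_point p)
    rw [le_antisymm hle (h hle), hm]
  · intro h q hq
    refine (le_iff q p).mpr ?_
    rw [h]
    exact specializes_point q

theorem isMin_iff {x : X} (p : PrimeSpectrum (X.presheaf.stalk x)) :
    IsMin p ↔ IsMaxPt (X.fromSpecStalk x p) := by
  constructor
  · intro h z hz
    obtain ⟨q, rfl⟩ := exists_prime (hz.trans (specializes_point p))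
    exact congrArg _ (le_antisymm ((le_iff q p).mpr hz) (h ((le_iff q p).mpr hz)))
  · intro h q hq
    exact (le_iff p q).mpr (h _ ((le_iff q p).mp hq) ▸ specializes_rfl)

theorem le_one_iff (x : X) :
    ringKrullDim (X.presheaf.stalk x) ≤ 1 ↔ ∀ ξ : X, ξ ⤳ x → ξ = x ∨ IsMaxPt ξ := by
  rw [ringKrullDim, Order.krullDim_le_one_iff]
  constructor
  · intro h ξ hξ
    obtain ⟨p, rfl⟩ := exists_prime hξ
    exact (h p).symm.imp (isMax_iff p).mp (isMin_iff p).mp
  · exact fun h p => ((h _ (specializes_point p)).imp (isMax_iff p).mpr (isMin_iff p).mpr).symm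

theorem one_le_iff (x : X) : 1 ≤ ringKrullDim (X.presheaf.stalk x) ↔ ¬ IsMaxPt x := by
  rw [ringKrullDim, Order.one_le_krullDim_iff]
  constructor
  · rintro ⟨p, q, hpq⟩ h
    have hp := h _ (specializes_point p)
    have hq := h _ (specializes_point q)
    exact hpq.ne ((X.fromSpecStalk x).isEmbedding.injective (hp.trans hq.symm))
  · intro h
    simp only [IsMaxPt, not_forall] at h
    obtain ⟨z, hz, hne⟩ := h
    obtain ⟨p, hp⟩ := exists_prime hz
    obtain ⟨q, hq⟩ := exists_prime (specializes_rfl : x ⤳ x)
    refine ⟨p, q, lt_of_le_of_ne ((le_iff p q).mpr (by rw [hp, hq]; exact hz)) fun e => hne ?_⟩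
    rw [← hp, e, hq]

theorem closure_mem_iff (ξ : X) : closure ({ξ} : Set X) ∈ irreducibleComponents X ↔ IsMaxPt ξ := by
  constructor
  · intro h z hz
    have h1 : closure ({ξ} : Set X) ⊆ closure {z} := specializes_iff_closure_subset.mp hz
    exact ((specializes_iff_closure_subset.mpr (h.2 isIrreducible_singleton.closure h1)).antisymm hz).eq.symm
  · intro hx
    refine ⟨isIrreducible_singleton.closure, fun t ht hle => ?_⟩
    obtain ⟨z, hz⟩ := QuasiSober.sober ht.closure isClosed_closure
    have hzx : z ⤳ ξ := specializes_iff_mem_closure.mpr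
      (hz.def.symm ▸ subset_closure (hle (subset_closure rfl)))
    obtain rfl := hx z hzx
    exact subset_closure.trans hz.def.ge

theorem exists_closed_specialization [JacobsonSpace X] (ξ : X) : ∃ x : X, ξ ⤳ x ∧ IsClosed ({x} : Set X) := by
  obtain ⟨x, hx, hxc⟩ := nonempty_inter_closedPoints
    (Set.Nonempty.mono subset_closure (Set.singleton_nonempty ξ)) isClosed_closure.isLocallyClosed
  exact ⟨x, specializes_iff_mem_closure.mpr hx, hxc⟩

/-- On an irreducible curve a point is closed or generic. -/
theorem closed_or_generic [IrreducibleSpace X] [JacobsonSpace X]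
    (hX : ∀ x : X, IsClosed ({x} : Set X) → ringKrullDim (X.presheaf.stalk x) = 1) (ξ : X) :
    IsClosed ({ξ} : Set X) ∨ ξ = genericPoint X := by
  obtain ⟨x, hξx, hxc⟩ := exists_closed_specialization ξ
  rcases (le_one_iff x).mp (hX x hxc).le ξ hξx with rfl | h
  · exact Or.inl hxc
  · exact Or.inr (h _ ((genericPoint_spec X).specializes (Set.mem_univ ξ))).symm

theorem not_isClosed_generic [IrreducibleSpace X]
    (hX : ∀ x : X, IsClosed ({x} : Set X) → ringKrullDim (X.presheaf.stalk x) = 1) :
    ¬ IsClosed ({genericPoint X} : Set X) := fun h => by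
  have h1 := (one_le_iff (genericPoint X)).mp (hX _ h).ge
  refine h1 fun z hz => ?_
  exact (hz.antisymm ((genericPoint_spec X).specializes (Set.mem_univ z))).eq

end Groth.Agent.Lib.CurvePts
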