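import Groth.Agent.Lib.CurvePts.Basic
import Groth.Agent.Lib.SmoothCurve.Curve
import Groth.Agent.H18.SerreCrit
import Groth.Prelude.Def_Curv2
import Mathlib.RingTheory.Valuation.ValuationSubring

/-!
# Local rings of normal curves
-/

set_option autoImplicit false
set_option linter.style.haveILetI false
universe u

open CategoryTheory AlgebraicGeometry

namespace Groth.Agent.Lib.CurvePts

theorem fromSpecStalk_over (k : Type u) [Field k] (X : Scheme.{u}) [X.Over (Spec (CommRingCat.of k))]
    (x : X) : X.fromSpecStalk x ≫ X ↘ Spec (CommRingCat.of k) =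
      Spec.map (CommRingCat.ofHom (Curv2.stalkMap k X x)) :=
  (SmoothCurve.Curve.fromSpecStalk_comp (X ↘ Spec (CommRingCat.of k)) x).trans rfl

theorem exists_valuationSubring {X : Scheme.{u}} [IsIntegral X] [IsLocallyNoetherian X]
    (hnorm : Pi1.IsNormalScheme X) {x : X} (hx : ringKrullDim (X.presheaf.stalk x) = 1) :
    ∃ R : ValuationSubring X.functionField, R ≠ ⊤ ∧
      (R : Set X.functionField) = Set.range (algebraMap (X.presheaf.stalk x) X.functionField) := by
  haveI := (hnorm x).1
  haveI := (hnorm x).2
  haveI : ValuationRing (X.presheaf.stalk x) := by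
    refine ((tfae_of_isNoetherianRing_of_isLocalRing_of_isDomain (X.presheaf.stalk x)).out 5 1).mp ?_
    have hr := H18.SerreCrit.isRegularLocalRing_of_normal hx.le
    rw [IsRegularLocalRing.iff_finrank_cotangentSpace, hx] at hr
    exact_mod_cast hr.le
  refine ⟨⟨(algebraMap (X.presheaf.stalk x) X.functionField).range, fun z =>
    ValuationRing.isInteger_or_isInteger (X.presheaf.stalk x) z⟩, fun h => ?_, rfl⟩
  have hs : Function.Surjective (algebraMap (X.presheaf.stalk x) X.functionField) := fun z => by
    have : z ∈ (⊤ : ValuationSubring X.functionField) := trivial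
    rw [← h] at this
    exact this
  have hf : IsField (X.presheaf.stalk x) := (RingEquiv.ofBijective _
    ⟨IsFractionRing.injective _ _, hs⟩).toMulEquiv.isField (Field.toIsField _)
  rw [ringKrullDim_eq_zero_of_isField hf] at hx
  exact zero_ne_one hx

end Groth.Agent.Lib.CurvePts
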